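import Mathlib

/-!
For a finite group `G` acting on `R` and a subgroup `H` containing the decomposition group of `q`,
`R^G → R^H` induces an isomorphism of completions at the primes below `q`.
-/

set_option autoImplicit false
set_option linter.style.haveILetI false

universe u

open scoped Pointwise

namespace GrothLib.DecompRing21

variable {G R : Type u} [Group G] [Finite G] [CommRing R] [MulSemiringAction G R]

theorem mem_fix {H : Subgroup G} {x : R} :
    x ∈ FixedPoints.subring R H ↔ ∀ h ∈ H, h • x = x :=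
  ⟨fun hx h hh => hx ⟨h, hh⟩, fun hx h => hx h.1 h.2⟩

/-- translates of a prime are pairwise incomparable -/
theorem smul_eq_of_le [Module.Finite (FixedPoints.subring R G) R] (q : Ideal R) [q.IsPrime] (g : G)
    (h : g • q ≤ q) : g • q = q := by
  by_contra hne
  haveI : (g • q).IsPrime := inferInstance
  have h2 := Ideal.comap_lt_comap_of_integral_mem_sdiff (R := FixedPoints.subring R G) (I := g • q)
    (J := q)
  obtain ⟨x, hx, hx'⟩ := SetLike.exists_of_lt (lt_of_le_of_ne h hne)
  have hlt := h2 h ⟨hx, hx'⟩ (Algebra.IsIntegral.isIntegral x)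
  refine absurd hlt (not_lt_of_ge fun b hb => ?_)
  rw [Ideal.mem_comap] at hb ⊢
  have : g • (b : R) = b := b.2 g
  rw [show (algebraMap (FixedPoints.subring R G) R b) = (b : R) from rfl] at hb ⊢
  rw [← this]
  exact Ideal.smul_mem_pointwise_smul g _ _ hb

/-- an `H`-invariant element outside `q` in high powers of the translates outside `H` -/
theorem exists_e [Module.Finite (FixedPoints.subring R G) R] (q : Ideal R) [q.IsPrime]
    (H : Subgroup G) (hD : MulAction.stabilizer G q ≤ H) (N : ℕ) :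
    ∃ e : R, e ∈ FixedPoints.subring R H ∧ e ∉ q ∧ ∀ g ∉ H, e ∈ (g • q) ^ N := by
  classical
  haveI := Fintype.ofFinite G
  have hnot : ∀ g, g ∉ H → ∀ h ∈ H, ¬ g • q ≤ h • q := by
    intro g hg h hh hle
    have h1 : (h⁻¹ * g) • q ≤ q := by
      rw [mul_smul]
      calc h⁻¹ • g • q ≤ h⁻¹ • h • q := Ideal.pointwise_smul_le_pointwise_smul_iff.mpr hle
        _ = q := inv_smul_smul _ _
    have h2 : h⁻¹ * g ∈ H := hD (smul_eq_of_le q _ h1)
    exact hg (by simpa using H.mul_mem hh h2)
  have hex : ∀ g, g ∉ H → ∃ a ∈ g • q, ∀ h ∈ H, a ∉ h • q := by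
    intro g hg
    have hns : ¬ ((g • q : Ideal R) : Set R) ⊆
        ⋃ h ∈ ((Finset.univ.filter fun h => h ∈ H : Finset G) : Set G), ((h • q : Ideal R) : Set R) := by
      rw [Ideal.subset_union_prime 1 1 (fun h _ _ _ => inferInstance)]
      rintro ⟨h, hh, hle⟩
      exact hnot g hg h (Finset.mem_filter.mp hh).2 hle
    obtain ⟨a, ha, hna⟩ := Set.not_subset.mp hns
    refine ⟨a, ha, fun h hh hah => hna ?_⟩
    exact Set.mem_biUnion (Finset.mem_coe.mpr (Finset.mem_filter.mpr ⟨Finset.mem_univ h, hh⟩)) hah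
  choose a ha ha' using hex
  let e0 : R := ∏ g : {g : G // g ∉ H}, a g.1 g.2 ^ N
  refine ⟨∏ h : H, h • e0, ?_, ?_, ?_⟩
  · rw [mem_fix]
    intro k hk
    rw [Finset.smul_prod']
    refine Fintype.prod_equiv (Equiv.mulLeft (⟨k, hk⟩ : H)) _ _ fun h => ?_
    exact (mul_smul k (h : G) e0).symm
  · intro he
    obtain ⟨h, -, hh⟩ := Ideal.IsPrime.prod_mem_iff.mp he
    have h1 : e0 ∈ ((h⁻¹ : H) : G) • q :=
      Ideal.mem_inv_pointwise_smul_iff.mpr hh
    obtain ⟨g, -, hg⟩ := Ideal.IsPrime.prod_mem_iff.mp h1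
    exact ha' g.1 g.2 _ (h⁻¹).2 (Ideal.IsPrime.mem_of_pow_mem inferInstance N hg)
  · intro g hg
    refine (Ideal.prod_mem _ (i := (1 : H)) (Finset.mem_univ _) ?_)
    rw [one_smul]
    exact Ideal.prod_mem _ (i := ⟨g, hg⟩) (Finset.mem_univ _) (Ideal.pow_mem_pow (ha g hg) N)

variable (H : Subgroup G) (q : Ideal R) [q.IsPrime]

/-- Elements of high `q`-adic order in the `H`-invariants are in high powers of the prime below,
after localising. -/
theorem exists_N [IsNoetherianRing (FixedPoints.subring R G)] [Module.Finite (FixedPoints.subring R G) R]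
    (hle : FixedPoints.subring R G ≤ FixedPoints.subring R H) (n : ℕ) :
    ∃ N : ℕ, 1 ≤ N ∧ ∀ x : FixedPoints.subring R H, (x : R) ∈ q ^ N →
      ∃ s : FixedPoints.subring R H, (s : R) ∉ q ∧
        s * x ∈ ((q.comap (FixedPoints.subring R G).subtype) ^ n).map (Subring.inclusion hle) := by
  classical
  haveI := Fintype.ofFinite G
  let B := FixedPoints.subring R G
  set p : Ideal B := q.comap (FixedPoints.subring R G).subtype with hp
  let N₀ : Submodule B R :=
    { carrier := (FixedPoints.subring R H : Set R)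
      add_mem' := fun ha hb => (FixedPoints.subring R H).add_mem ha hb
      zero_mem' := (FixedPoints.subring R H).zero_mem
      smul_mem' := fun b x hx => (FixedPoints.subring R H).mul_mem (hle b.2) hx }
  obtain ⟨k, hk⟩ := Ideal.exists_pow_inf_eq_pow_smul p N₀
  haveI : IsNoetherianRing R := IsNoetherianRing.of_finite B R
  let L := Localization.AtPrime q
  let P : Ideal L := (p.map (algebraMap B R)).map (algebraMap R L)
  have hrad : IsLocalRing.maximalIdeal L ≤ P.radical := by
    rw [Ideal.radical_eq_sInf]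
    refine le_sInf fun Q ⟨hPQ, hQ⟩ => ?_
    haveI := hQ
    suffices h : Q.comap (algebraMap R L) = q by
      rw [← IsLocalization.AtPrime.map_eq_maximalIdeal q]
      exact (Ideal.map_mono h.ge).trans Ideal.map_comap_le
    have hle' : Q.comap (algebraMap R L) ≤ q := by
      calc Q.comap (algebraMap R L) ≤ (IsLocalRing.maximalIdeal L).comap (algebraMap R L) :=
            Ideal.comap_mono (IsLocalRing.le_maximalIdeal hQ.ne_top)
        _ = q := IsLocalization.AtPrime.comap_maximalIdeal L q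
    by_contra hne
    obtain ⟨x, hx, hx'⟩ := SetLike.exists_of_lt (lt_of_le_of_ne hle' hne)
    have hlt := Ideal.comap_lt_comap_of_integral_mem_sdiff (R := B) hle' ⟨hx, hx'⟩
      (Algebra.IsIntegral.isIntegral x)
    refine absurd hlt (not_lt_of_ge ?_)
    intro b hb
    exact hPQ (Ideal.mem_map_of_mem _ (Ideal.mem_map_of_mem _ hb))
  obtain ⟨M, hM⟩ := Ideal.exists_pow_le_of_le_radical_of_fg hrad (IsNoetherian.noetherian _)
  refine ⟨(M + 1) * (n + k + 1), Nat.mul_pos M.succ_pos (n + k).succ_pos, fun x hx => ?_⟩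
  let J : Ideal R := (p ^ (n + k)).map (algebraMap B R)
  let T : Ideal R :=
    { carrier := {s | s * (x : R) ∈ J}
      add_mem' := fun ha hb => by rw [Set.mem_setOf_eq, add_mul]; exact J.add_mem ha hb
      zero_mem' := by rw [Set.mem_setOf_eq, zero_mul]; exact J.zero_mem
      smul_mem' := fun c s hs => by
        show c • s * (x : R) ∈ J
        rw [smul_eq_mul, mul_assoc]; exact J.mul_mem_left c hs }
  have hxJ : algebraMap R L (x : R) ∈ J.map (algebraMap R L) := by
    have h1 : algebraMap R L (x : R) ∈ IsLocalRing.maximalIdeal L ^ ((M + 1) * (n + k + 1)) := by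
      rw [← IsLocalization.AtPrime.map_eq_maximalIdeal q, ← Ideal.map_pow]
      exact Ideal.mem_map_of_mem _ hx
    rw [pow_mul] at h1
    have h2 : (IsLocalRing.maximalIdeal L ^ (M + 1)) ^ (n + k + 1) ≤ J.map (algebraMap R L) := by
      calc (IsLocalRing.maximalIdeal L ^ (M + 1)) ^ (n + k + 1)
          ≤ (IsLocalRing.maximalIdeal L ^ M) ^ (n + k) :=
            (Ideal.pow_right_mono (Ideal.pow_le_pow_right M.le_succ) _).trans
              (Ideal.pow_le_pow_right (n + k).le_succ)
        _ ≤ P ^ (n + k) := Ideal.pow_right_mono hM _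
        _ = J.map (algebraMap R L) := by simp only [P, J]; rw [Ideal.map_pow, Ideal.map_pow]
    exact h2 h1
  obtain ⟨s₀, hs₀, hs₀x⟩ :=
    (IsLocalization.algebraMap_mem_map_algebraMap_iff q.primeCompl L _ _).mp hxJ
  have hTinv : ∀ h ∈ H, ∀ s ∈ T, h • s ∈ T := by
    intro h hh s hs
    have hJ : J ≤ Ideal.comap (MulSemiringAction.toRingHom G R h) J := by
      rw [Ideal.map_le_iff_le_comap]
      intro b hb
      show h • (algebraMap B R b) ∈ J
      rw [show h • (algebraMap B R b) = algebraMap B R b from b.2 h]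
      exact Ideal.mem_map_of_mem _ hb
    show (h • s) * (x : R) ∈ J
    rw [← (mem_fix.mp x.2) h hh, ← smul_mul']
    exact hJ hs
  have hns : ¬ (T : Set R) ⊆
      ⋃ h ∈ ((Finset.univ.filter fun h => h ∈ H : Finset G) : Set G), ((h • q : Ideal R) : Set R) := by
    rw [Ideal.subset_union_prime 1 1 (fun h _ _ _ => inferInstance)]
    rintro ⟨h, hh, hle'⟩
    have hmem := hle' (hTinv h (Finset.mem_filter.mp hh).2 s₀ hs₀x)
    exact hs₀ (Ideal.smul_mem_pointwise_smul_iff.mp hmem)
  obtain ⟨s, hsT, hsU⟩ := Set.not_subset.mp hns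
  let s' : R := ∏ h : H, h • s
  have hs'H : s' ∈ FixedPoints.subring R H := by
    rw [mem_fix]
    intro k' hk'
    rw [Finset.smul_prod']
    refine Fintype.prod_equiv (Equiv.mulLeft (⟨k', hk'⟩ : H)) _ _ fun h => ?_
    exact (mul_smul k' (h : G) s).symm
  refine ⟨⟨s', hs'H⟩, fun hc => ?_, ?_⟩
  · obtain ⟨h, -, hh⟩ := Ideal.IsPrime.prod_mem_iff.mp hc
    exact hsU (Set.mem_biUnion (Finset.mem_coe.mpr (Finset.mem_filter.mpr
      ⟨Finset.mem_univ _, (h⁻¹).2⟩)) (Ideal.mem_inv_pointwise_smul_iff.mpr hh))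
  · have h1 : s' * (x : R) ∈ J := by
      have : s' ∈ T := Ideal.prod_mem _ (i := (1 : H)) (Finset.mem_univ _) (by simpa using hsT)
      exact this
    have h2 : s' * (x : R) ∈ p ^ n • N₀ := by
      have h3 : s' * (x : R) ∈ p ^ (n + k) • (⊤ : Submodule B R) ⊓ N₀ := by
        refine ⟨?_, (FixedPoints.subring R H).mul_mem hs'H x.2⟩
        rw [Ideal.smul_top_eq_map]
        exact h1
      rw [hk (n + k) (by omega), Nat.add_sub_cancel] at h3
      exact Submodule.smul_mono le_rfl inf_le_right h3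
    have key : ∀ z ∈ p ^ n • N₀, ∃ hz : z ∈ FixedPoints.subring R H,
        (⟨z, hz⟩ : FixedPoints.subring R H) ∈ (p ^ n).map (Subring.inclusion hle) := by
      intro z hz
      refine Submodule.smul_induction_on hz (fun b hb y hy => ?_) (fun a b ⟨ha, ha'⟩ ⟨hb, hb'⟩ => ?_)
      · exact ⟨(FixedPoints.subring R H).mul_mem (hle b.2) hy,
          Ideal.mul_mem_right (⟨y, hy⟩ : FixedPoints.subring R H) _
            (Ideal.mem_map_of_mem (Subring.inclusion hle) hb)⟩
      · exact ⟨(FixedPoints.subring R H).add_mem ha hb, Ideal.add_mem _ ha' hb'⟩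
    exact (key _ h2).2

/-- A `R^G`-linear map `R^H → R^G` congruent to multiplication by a unit at `q`. -/
theorem exists_T [Module.Finite (FixedPoints.subring R G) R]
    (hD : MulAction.stabilizer G q ≤ H)
    (hle : FixedPoints.subring R G ≤ FixedPoints.subring R H) (N : ℕ) :
    ∃ (e : R) (T : FixedPoints.subring R H →+ FixedPoints.subring R G), e ∉ q ∧
      (∀ b x, T (Subring.inclusion hle b * x) = b * T x) ∧
      ∀ x : FixedPoints.subring R H, (T x : R) - e * x ∈ q ^ N := by
  classical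
  haveI := Fintype.ofFinite G
  obtain ⟨e, heH, heq, heN⟩ := exists_e q H hD N
  let f : FixedPoints.subring R H → G ⧸ H → R := fun x c => c.out • (e * (x : R))
  have hf : ∀ x (g : G), f x (QuotientGroup.mk g) = g • (e * (x : R)) := by
    intro x g
    obtain ⟨h, hh⟩ := QuotientGroup.mk_out_eq_mul H g
    simp only [f]
    rw [hh, mul_smul]
    congr 1
    exact mem_fix.mp ((FixedPoints.subring R H).mul_mem heH x.2) h.1 h.2
  have hsum : ∀ x, (∑ c, f x c) ∈ FixedPoints.subring R G := by
    intro x g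
    rw [Finset.smul_sum]
    refine Fintype.sum_equiv (MulAction.toPerm g) _ _ fun c => ?_
    induction c using QuotientGroup.induction_on with
    | _ g' =>
      rw [MulAction.toPerm_apply, MulAction.Quotient.smul_mk, hf, hf, smul_eq_mul, mul_smul]
  let T : FixedPoints.subring R H →+ FixedPoints.subring R G :=
    AddMonoidHom.mk' (fun x => ⟨∑ c, f x c, hsum x⟩) fun x y => by
      apply Subtype.ext
      show ∑ c, f (x + y) c = (∑ c, f x c) + ∑ c, f y c
      rw [← Finset.sum_add_distrib]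
      simp [f, mul_add, smul_add]
  refine ⟨e, T, heq, fun b x => ?_, fun x => ?_⟩
  · apply Subtype.ext
    show ∑ c, f _ c = (b : R) * ∑ c, f x c
    rw [Finset.mul_sum]
    refine Finset.sum_congr rfl fun c _ => ?_
    show c.out • (e * ((b : R) * (x : R))) = (b : R) * (c.out • (e * (x : R)))
    rw [mul_left_comm, smul_mul', show c.out • (b : R) = b from b.2 _]
  · show ∑ c, f x c - e * (x : R) ∈ q ^ N
    rw [← Finset.add_sum_erase _ _ (Finset.mem_univ (QuotientGroup.mk (1 : G) : G ⧸ H)), hf, one_smul,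
      add_sub_cancel_left]
    refine Ideal.sum_mem _ fun c hc => ?_
    induction c using QuotientGroup.induction_on with
    | _ g =>
      rw [hf]
      have hg : g⁻¹ ∉ H := fun h => (Finset.mem_erase.mp hc).1
        (QuotientGroup.eq.mpr (by simpa using h))
      have h1 : e * (x : R) ∈ (g⁻¹ • q) ^ N := Ideal.mul_mem_right _ _ (heN _ hg)
      have h2 : (g⁻¹ • q) ^ N = g⁻¹ • q ^ N := (smul_pow' g⁻¹ q N).symm
      rw [h2] at h1
      exact Ideal.mem_inv_pointwise_smul_iff.mp h1

theorem main [IsNoetherianRing (FixedPoints.subring R G)] [Module.Finite (FixedPoints.subring R G) R]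
    (hD : MulAction.stabilizer G q ≤ H)
    (hle : FixedPoints.subring R G ≤ FixedPoints.subring R H) (n : ℕ) :
    let q' : Ideal (FixedPoints.subring R H) := Ideal.comap (FixedPoints.subring R H).subtype q
    let φ := Localization.localRingHom (Ideal.comap (Subring.inclusion hle) q') q' (Subring.inclusion hle) rfl
    Function.Surjective ((Ideal.Quotient.mk (IsLocalRing.maximalIdeal (Localization.AtPrime q') ^ n)).comp φ) ∧
      Ideal.comap φ (IsLocalRing.maximalIdeal (Localization.AtPrime q') ^ n) =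
        IsLocalRing.maximalIdeal (Localization.AtPrime (Ideal.comap (Subring.inclusion hle) q')) ^ n := by
  intro q' φ
  let R' := FixedPoints.subring R H
  let B := FixedPoints.subring R G
  let ι : B →+* R' := Subring.inclusion hle
  let p : Ideal B := Ideal.comap ι q'
  let L := Localization.AtPrime q'
  let a : R' →+* L := algebraMap R' L
  have hφ : ∀ b, φ (algebraMap B (Localization.AtPrime p) b) = a (ι b) := fun b =>
    Localization.localRingHom_to_map _ _ _ _ b
  -- high order elements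
  have hA : ∀ m, ∃ N, 1 ≤ N ∧ ∀ x : R', (x : R) ∈ q ^ N → a x ∈ ((p ^ m).map ι).map a := by
    intro m
    obtain ⟨N, hN, h⟩ := exists_N H q hle m
    refine ⟨N, hN, fun x hx => ?_⟩
    obtain ⟨s, hs, hsx⟩ := h x hx
    exact (IsLocalization.algebraMap_mem_map_algebraMap_iff q'.primeCompl L _ _).mpr ⟨s, hs, hsx⟩
  -- approximation
  have hB : ∀ N, 1 ≤ N → ∀ x : R', ∃ y c : B, c ∉ p ∧ ((ι c * x - ι y : R') : R) ∈ q ^ N := by
    intro N hN x
    obtain ⟨e, T, he, -, hT⟩ := exists_T H q hD hle N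
    have h1 := hT 1
    rw [OneMemClass.coe_one, mul_one] at h1
    refine ⟨T x, T 1, fun hc => he ?_, ?_⟩
    · have h2 : ((T 1 : B) : R) ∈ q := hc
      simpa using q.sub_mem h2 (Ideal.pow_le_self (by omega) h1)
    · show (T 1 : R) * (x : R) - (T x : R) ∈ q ^ N
      rw [show (T 1 : R) * (x : R) - (T x : R) =
        ((T 1 : R) - e) * (x : R) - ((T x : R) - e * (x : R)) by ring]
      exact (q ^ N).sub_mem (Ideal.mul_mem_right _ _ h1) (hT x)
  have hu : ∀ c : B, c ∉ p → IsUnit (a (ι c)) := fun c hc =>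
    IsLocalization.map_units L (⟨ι c, hc⟩ : q'.primeCompl)
  have hm : IsLocalRing.maximalIdeal L = (p.map ι).map a := by
    refine le_antisymm ?_ ?_
    · rw [← IsLocalization.AtPrime.map_eq_maximalIdeal q', Ideal.map_le_iff_le_comap]
      intro x hx
      obtain ⟨N, hN, hN'⟩ := hA 1
      obtain ⟨y, c, hc, hcy⟩ := hB N hN x
      have h1 := hN' _ hcy
      rw [pow_one] at h1
      have hy : y ∈ p := by
        show ((ι y : R') : R) ∈ q
        have h3 : ((ι c : R') : R) * (x : R) ∈ q := Ideal.mul_mem_left _ _ hx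
        have h4 := q.sub_mem h3 (Ideal.pow_le_self (by omega) hcy)
        simpa using h4
      rw [Ideal.mem_comap]
      have h2 : a (ι c) * a x ∈ (p.map ι).map a := by
        rw [← map_mul, show ι c * x = (ι c * x - ι y) + ι y by ring, map_add]
        exact add_mem h1 (Ideal.mem_map_of_mem _ (Ideal.mem_map_of_mem _ hy))
      exact (Ideal.unit_mul_mem_iff_mem _ (hu c hc)).mp h2
    · rw [← IsLocalization.AtPrime.map_eq_maximalIdeal q']
      exact Ideal.map_mono Ideal.map_comap_le
  have hmn : IsLocalRing.maximalIdeal L ^ n = ((p ^ n).map ι).map a := by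
    rw [hm, Ideal.map_pow, Ideal.map_pow]
  refine ⟨fun z => ?_, le_antisymm (fun w hw => ?_) ?_⟩
  · obtain ⟨z, rfl⟩ := Ideal.Quotient.mk_surjective z
    obtain ⟨x, ⟨s, hs⟩, rfl⟩ := IsLocalization.exists_mk'_eq q'.primeCompl z
    obtain ⟨N, hN, hN'⟩ := hA n
    obtain ⟨y₁, c₁, hc₁, h₁⟩ := hB N hN x
    obtain ⟨y₂, c₂, hc₂, h₂⟩ := hB N hN s
    have hy₂ : y₂ ∉ p := fun hy => by
      have h3 : ((ι c₂ * s : R') : R) ∈ q := by
        rw [show ι c₂ * s = (ι c₂ * s - ι y₂) + ι y₂ by ring]
        exact q.add_mem (Ideal.pow_le_self (by omega) h₂) hy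
      exact (‹q.IsPrime›.mem_or_mem h3).elim hc₂ hs
    refine ⟨IsLocalization.mk' _ (c₂ * y₁)
      (⟨c₁ * y₂, fun h => (Ideal.IsPrime.mem_or_mem inferInstance h).elim hc₁ hy₂⟩ : p.primeCompl), ?_⟩
    rw [RingHom.comp_apply, Ideal.Quotient.eq, hmn]
    have hus : IsUnit (a (ι (c₁ * y₂)) * a s) :=
      (hu _ fun h => (Ideal.IsPrime.mem_or_mem inferInstance h).elim hc₁ hy₂).mul
        (IsLocalization.map_units L (⟨s, hs⟩ : q'.primeCompl))
    rw [← Ideal.unit_mul_mem_iff_mem _ hus, Localization.localRingHom_mk']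
    have h4 : a (ι (c₁ * y₂)) * a s * (IsLocalization.mk' L (ι (c₂ * y₁))
        (⟨ι (c₁ * y₂), fun h => (Ideal.IsPrime.mem_or_mem (I := p) inferInstance h).elim hc₁ hy₂⟩ :
          q'.primeCompl) - IsLocalization.mk' L x (⟨s, hs⟩ : q'.primeCompl)) =
        a (ι (c₂ * y₁) * s - x * ι (c₁ * y₂)) := by
      have e1 := IsLocalization.mk'_spec L (ι (c₂ * y₁))
        (⟨ι (c₁ * y₂), fun h => (Ideal.IsPrime.mem_or_mem (I := p) inferInstance h).elim hc₁ hy₂⟩ :
          q'.primeCompl)
      have e2 := IsLocalization.mk'_spec L x (⟨s, hs⟩ : q'.primeCompl)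
      simp only [map_sub, map_mul] at e1 e2 ⊢
      linear_combination (a s) * e1 - (a (ι c₁) * a (ι y₂)) * e2
    refine Eq.mpr (congrArg (· ∈ _) h4) (hN' _ ?_)
    rw [show ι (c₂ * y₁) * s - x * ι (c₁ * y₂) =
      ι y₁ * (ι c₂ * s - ι y₂) - ι y₂ * (ι c₁ * x - ι y₁) by simp only [map_mul]; ring]
    exact (q ^ N).sub_mem ((q ^ N).mul_mem_left _ h₂) ((q ^ N).mul_mem_left _ h₁)
  · obtain ⟨b, ⟨c, hc⟩, rfl⟩ := IsLocalization.exists_mk'_eq p.primeCompl w
    rw [Ideal.mem_comap, Localization.localRingHom_mk', hmn,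
      IsLocalization.mk'_mem_map_algebraMap_iff] at hw
    obtain ⟨s, hs, hsb⟩ := hw
    obtain ⟨e, T, he, hTlin, hT⟩ := exists_T H q hD hle 1
    have hTs : T s ∉ p := fun h => by
      have h5 : (e * (s : R)) ∈ q := by
        have := q.sub_mem (show ((T s : B) : R) ∈ q from h) (Ideal.pow_le_self one_ne_zero (hT s))
        simpa using this
      exact (‹q.IsPrime›.mem_or_mem h5).elim he hs
    rw [← IsLocalization.AtPrime.map_eq_maximalIdeal p, ← Ideal.map_pow,
      IsLocalization.mk'_mem_map_algebraMap_iff]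
    refine ⟨T s, hTs, ?_⟩
    rw [mul_comm, ← hTlin]
    have key : ∀ z ∈ (p ^ n).map ι, ∀ r : R', T (z * r) ∈ p ^ n := by
      intro z hz
      induction hz using Submodule.span_induction with
      | mem z hz =>
        obtain ⟨d, hd, rfl⟩ := hz
        intro r
        rw [hTlin]
        exact Ideal.mul_mem_right _ _ hd
      | zero => simp
      | add z₁ z₂ _ _ h1 h2 => intro r; rw [add_mul, map_add]; exact (p ^ n).add_mem (h1 r) (h2 r)
      | smul d z _ h1 => intro r; rw [smul_eq_mul, mul_comm d z, mul_assoc]; exact h1 _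
    simpa [mul_comm] using key _ hsb 1
  · rw [← Ideal.map_le_iff_le_comap, ← IsLocalization.AtPrime.map_eq_maximalIdeal p, ← Ideal.map_pow,
      Ideal.map_map, hmn, Ideal.map_map]
    refine le_of_eq ?_
    congr 1
    exact RingHom.ext hφ

end GrothLib.DecompRing21
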